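import Mathlib
import Cfsg.Agent.H29.SN.Blk

/-!
# Sections of `PSL_n(F)` from linearly independent vectors (S3831, helper29)

* `exists_sec` : `A v_j = ∑ B_ij v_i`, `k < n` : `PS l`, `RN` pass from `lift (cj A)` on `PSL_n(F)` to `lift (cj B)` on `PSL_k(F)`;
* `exists_sec_itr` : the same for `lift (cj A * itr)` (polarities), rows `v_i` and an `A`-orthogonal complement.
-/

set_option autoImplicit false
set_option linter.unusedSectionVars false

namespace Cfsg.Agent.H29.SN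

open Matrix Cfsg.Agent.H459.Rad Cfsg.Agent.H21.SN
open Cfsg.Agent.ClassicalGeometry.AutPSL.Root
open Cfsg.Agent.ClassicalGeometry.AutPSL.Auto
open Cfsg.Agent.ClassicalGeometry.AutPSL.Main

variable {F : Type} [Field F] {n k : ℕ}

/-- a basis adapted to a decomposition -/
theorem exists_basis {v : Fin k → (Fin n → F)} (hv : LinearIndependent F v) {W : Submodule F (Fin n → F)}
    (hW : IsCompl (Submodule.span F (Set.range v)) W) :
    ∃ (m : ℕ) (b : Module.Basis (Fin k ⊕ Fin m) F (Fin n → F)), k + m = n ∧ (∀ i, b (Sum.inl i) = v i) ∧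
      ∀ j, b (Sum.inr j) ∈ W := by
  let b1 := Module.Basis.span hv
  let b2 := Module.finBasis F W
  let b := (b1.prod b2).map (Submodule.prodEquivOfIsCompl _ _ hW)
  refine ⟨Module.finrank F W, b, ?_, fun i => ?_, fun j => ?_⟩
  · have h1 := Module.finrank_eq_card_basis b
    rw [Module.finrank_fin_fun, Fintype.card_sum, Fintype.card_fin, Fintype.card_fin] at h1
    exact h1.symm
  · rw [Module.Basis.map_apply, Module.Basis.prod_apply]
    simp only [Sum.elim_inl, Function.comp_apply, LinearMap.coe_inl, Submodule.coe_prodEquivOfIsCompl', ZeroMemClass.coe_zero,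
      add_zero]
    exact congrArg Subtype.val (Module.Basis.span_apply hv i)
  · rw [Module.Basis.map_apply, Module.Basis.prod_apply]
    simp only [Sum.elim_inr, Function.comp_apply, LinearMap.coe_inr, Submodule.coe_prodEquivOfIsCompl', ZeroMemClass.coe_zero,
      zero_add]
    exact (b2 j).2

theorem cj_eq_of {ι : Type} [Fintype ι] [DecidableEq ι] {A : GL ι F} {m m' : SpecialLinearGroup ι F}
    (h : (A : Matrix ι ι F) * (m : Matrix ι ι F) = (m' : Matrix ι ι F) * (A : Matrix ι ι F)) : cj A m = m' := by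
  apply Subtype.ext
  rw [coe_cj]
  calc (A : Matrix ι ι F) * (m : Matrix ι ι F) * ((A⁻¹ : GL ι F) : Matrix ι ι F)
      = (m' : Matrix ι ι F) * ((A : Matrix ι ι F) * ((A⁻¹ : GL ι F) : Matrix ι ι F)) := by rw [h, Matrix.mul_assoc]
    _ = m' := by rw [← Units.val_mul, mul_inv_cancel, Units.val_one, Matrix.mul_one]

theorem cj_mul {ι : Type} [Fintype ι] [DecidableEq ι] (A : GL ι F) (m : SpecialLinearGroup ι F) :
    (cj A m : Matrix ι ι F) * (A : Matrix ι ι F) = (A : Matrix ι ι F) * (m : Matrix ι ι F) := by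
  rw [coe_cj, Matrix.mul_assoc, ← Units.val_mul, inv_mul_cancel, Units.val_one, Matrix.mul_one]

section Blocks

variable {ι₁ ι₂ : Type} [Fintype ι₁] [DecidableEq ι₁] [Fintype ι₂] [DecidableEq ι₂]

/-- sections of block triangular automorphisms -/
theorem sec_tri [Finite F] [Nonempty ι₂] {C : GL (ι₁ ⊕ ι₂) F} {B : Matrix ι₁ ι₁ F} {X : Matrix ι₁ ι₂ F}
    {Y : Matrix ι₂ ι₂ F} (hC : (C : Matrix _ _ F) = fromBlocks B X 0 Y) :
    ∃ B' : GL ι₁ F, (B' : Matrix ι₁ ι₁ F) = B ∧ (∀ k, PS k (lift (cj C)) → PS k (lift (cj B'))) ∧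
      (RN (lift (cj C)) → RN (lift (cj B'))) := by
  have hdet : C.1.det ≠ 0 := by
    have h1 := congrArg Matrix.det (congrArg Units.val (mul_inv_cancel C))
    rw [Units.val_mul, det_mul, Units.val_one, det_one] at h1
    exact left_ne_zero_of_mul_eq_one h1
  rw [hC, det_fromBlocks_zero₂₁] at hdet
  have hB : B.det ≠ 0 := left_ne_zero_of_mul hdet
  have hY : Y.det ≠ 0 := right_ne_zero_of_mul hdet
  let B' : GL ι₁ F := GeneralLinearGroup.mkOfDetNeZero B hB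
  have hB' : (B' : Matrix ι₁ ι₁ F) = B := rfl
  let Y' : GL ι₂ F := GeneralLinearGroup.mkOfDetNeZero Y hY
  have hY' : (Y' : Matrix ι₂ ι₂ F) = Y := rfl
  refine ⟨B', hB', ?_⟩
  have key : ∀ m ∈ par ι₁ ι₂ F, cj C m ∈ par ι₁ ι₂ F ∧
      (cj C m).1.toBlocks₁₁ * B = B * m.1.toBlocks₁₁ := by
    intro m hm
    have h1 := cj_mul C m
    have h2 : (cj C m : Matrix _ _ F) = fromBlocks (cj C m).1.toBlocks₁₁ (cj C m).1.toBlocks₁₂ (cj C m).1.toBlocks₂₁
        (cj C m).1.toBlocks₂₂ := (fromBlocks_toBlocks _).symm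
    have h3 : (m : Matrix (ι₁ ⊕ ι₂) (ι₁ ⊕ ι₂) F) = fromBlocks m.1.toBlocks₁₁ m.1.toBlocks₁₂ 0 1 := par_eq hm
    rw [h2, h3, hC, fromBlocks_multiply, fromBlocks_multiply] at h1
    obtain ⟨e1, -, e3, e4⟩ := fromBlocks_inj.1 h1
    simp only [Matrix.mul_zero, add_zero, Matrix.zero_mul, zero_add, Matrix.mul_one] at e1 e3 e4
    have h5 : (cj C m).1.toBlocks₂₁ = 0 := by
      calc (cj C m).1.toBlocks₂₁ = (cj C m).1.toBlocks₂₁ * (B * (B'⁻¹ : GL ι₁ F).1) := by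
            rw [← hB', ← Units.val_mul, mul_inv_cancel, Units.val_one, Matrix.mul_one]
        _ = 0 := by rw [← Matrix.mul_assoc, e3, Matrix.zero_mul]
    rw [h5, Matrix.zero_mul, zero_add] at e4
    refine ⟨⟨h5, ?_⟩, e1⟩
    calc (cj C m).1.toBlocks₂₂ = (cj C m).1.toBlocks₂₂ * (Y * (Y'⁻¹ : GL ι₂ F).1) := by
          rw [← hY', ← Units.val_mul, mul_inv_cancel, Units.val_one, Matrix.mul_one]
      _ = 1 := by rw [← Matrix.mul_assoc, e4, ← hY', ← Units.val_mul, mul_inv_cancel, Units.val_one]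
  exact sec_core (par ι₁ ι₂ F) le_rfl dg_mem (cj C) (cj B') (fun m hm => (key m hm).1) fun m hm =>
    (cj_eq_of (A := B') (m := blk ι₁ ι₂ F ⟨m, hm⟩) (m' := blk ι₁ ι₂ F ⟨cj C m, (key m hm).1⟩) (key m hm).2.symm).symm

theorem dg_one : (dg 1 : SpecialLinearGroup (ι₁ ⊕ ι₂) F) = 1 := by
  apply Subtype.ext
  change fromBlocks (1 : Matrix ι₁ ι₁ F) 0 0 1 = 1
  rw [fromBlocks_one]

theorem dg_mul (a b : SpecialLinearGroup ι₁ F) :
    (dg (a * b) : SpecialLinearGroup (ι₁ ⊕ ι₂) F) = dg a * dg b := by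
  apply Subtype.ext
  change fromBlocks (a.1 * b.1) 0 0 1 = fromBlocks a.1 0 0 1 * fromBlocks b.1 0 0 1
  rw [fromBlocks_multiply]
  simp

/-- `dg` as a homomorphism -/
def dgH (ι₁ ι₂ F : Type) [Fintype ι₁] [DecidableEq ι₁] [Fintype ι₂] [DecidableEq ι₂] [Field F] :
    SpecialLinearGroup ι₁ F →* SpecialLinearGroup (ι₁ ⊕ ι₂) F where
  toFun := dg
  map_one' := dg_one
  map_mul' := dg_mul

theorem itr_dg (a : SpecialLinearGroup ι₁ F) :
    itr (dg a : SpecialLinearGroup (ι₁ ⊕ ι₂) F) = dg (itr a) := by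
  apply Subtype.ext
  rw [coe_itr]
  have h1 : ((dg a)⁻¹ : SpecialLinearGroup (ι₁ ⊕ ι₂) F) = dg a⁻¹ := (map_inv (dgH ι₁ ι₂ F) a).symm
  rw [h1]
  change (fromBlocks (a⁻¹).1 0 0 1 : Matrix (ι₁ ⊕ ι₂) (ι₁ ⊕ ι₂) F)ᵀ = fromBlocks (a⁻¹).1ᵀ 0 0 1
  rw [fromBlocks_transpose, transpose_zero, transpose_one, transpose_zero]

/-- sections of block diagonal polarities -/
theorem sec_itr [Finite F] [Nonempty ι₂] {C : GL (ι₁ ⊕ ι₂) F} {G : Matrix ι₁ ι₁ F}
    {H : Matrix ι₂ ι₂ F} (hC : (C : Matrix _ _ F) = fromBlocks G 0 0 H) :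
    ∃ G' : GL ι₁ F, (G' : Matrix ι₁ ι₁ F) = G ∧ (∀ k, PS k (lift (cj C * itr)) → PS k (lift (cj G' * itr))) ∧
      (RN (lift (cj C * itr)) → RN (lift (cj G' * itr))) := by
  have hdet : C.1.det ≠ 0 := by
    have h1 := congrArg Matrix.det (congrArg Units.val (mul_inv_cancel C))
    rw [Units.val_mul, det_mul, Units.val_one, det_one] at h1
    exact left_ne_zero_of_mul_eq_one h1
  rw [hC, det_fromBlocks_zero₂₁] at hdet
  have hG : G.det ≠ 0 := left_ne_zero_of_mul hdet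
  let G' : GL ι₁ F := GeneralLinearGroup.mkOfDetNeZero G hG
  have hG' : (G' : Matrix ι₁ ι₁ F) = G := rfl
  refine ⟨G', hG', ?_⟩
  have key : ∀ a : SpecialLinearGroup ι₁ F, cj C (dg a) = dg (cj G' a) := by
    intro a
    apply cj_eq_of
    change C.1 * fromBlocks a.1 0 0 1 = fromBlocks (cj G' a).1 0 0 1 * C.1
    have h1 : (cj G' a).1 * G = G * a.1 := cj_mul G' a
    rw [hC, fromBlocks_multiply, fromBlocks_multiply]
    simp [h1]
  have hM : (dgH ι₁ ι₂ F).range ≤ par ι₁ ι₂ F := by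
    rintro _ ⟨a, rfl⟩
    exact dg_mem a
  obtain ⟨β, hβ⟩ : ∃ β : MulAut (SpecialLinearGroup (ι₁ ⊕ ι₂) F), β = cj C * itr := ⟨_, rfl⟩
  obtain ⟨β₁, hβ₁⟩ : ∃ β₁ : MulAut (SpecialLinearGroup ι₁ F), β₁ = cj G' * itr := ⟨_, rfl⟩
  rw [← hβ, ← hβ₁]
  have key2 : ∀ a : SpecialLinearGroup ι₁ F, β (dg a) = dg (β₁ a) := by
    intro a
    rw [hβ, hβ₁, MulAut.mul_apply, MulAut.mul_apply, itr_dg, key]
  have hinv : ∀ m ∈ (dgH ι₁ ι₂ F).range, β m ∈ (dgH ι₁ ι₂ F).range := by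
    rintro _ ⟨a, rfl⟩
    exact ⟨β₁ a, (key2 a).symm⟩
  refine sec_core (dgH ι₁ ι₂ F).range hM (fun a => ⟨a, rfl⟩) β β₁ hinv ?_
  rintro _ ⟨a, rfl⟩
  have h1 : (⟨β (dgH ι₁ ι₂ F a), hM (hinv _ ⟨a, rfl⟩)⟩ : par ι₁ ι₂ F) = ⟨dg (β₁ a), dg_mem _⟩ :=
    Subtype.ext (key2 a)
  rw [h1, blk_dg]
  exact congrArg _ (blk_dg a).symm

end Blocks

/-- **sections from invariant subspaces** -/
theorem exists_sec [Finite F] (hk : k < n) (A : GL (Fin n) F) {v : Fin k → (Fin n → F)}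
    (hv : LinearIndependent F v) (B : Matrix (Fin k) (Fin k) F)
    (hB : ∀ j, (A : Matrix (Fin n) (Fin n) F) *ᵥ v j = ∑ i, B i j • v i) :
    ∃ B' : GL (Fin k) F, (B' : Matrix (Fin k) (Fin k) F) = B ∧ (∀ l, PS l (lift (cj A)) → PS l (lift (cj B'))) ∧
      (RN (lift (cj A)) → RN (lift (cj B'))) := by
  obtain ⟨W, hW⟩ := Submodule.exists_isCompl (Submodule.span F (Set.range v))
  obtain ⟨m, b, hm, hb, -⟩ := exists_basis hv hW
  have : Nonempty (Fin m) := ⟨⟨0, by omega⟩⟩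
  set Q' : Matrix (Fin n) (Fin k ⊕ Fin m) F := (Pi.basisFun F (Fin n)).toMatrix b with hQ'
  set Q : Matrix (Fin k ⊕ Fin m) (Fin n) F := b.toMatrix (Pi.basisFun F (Fin n)) with hQ
  have h : Q * Q' = 1 := Module.Basis.toMatrix_mul_toMatrix_flip _ _
  have h' : Q' * Q = 1 := Module.Basis.toMatrix_mul_toMatrix_flip _ _
  have hcol : ∀ j, Q' *ᵥ Pi.single j 1 = b j := by
    intro j
    rw [mulVec_single_one]
    ext i
    rfl
  have hC : ∀ i j, (Q * A.1 * Q') i (Sum.inl j) = Sum.elim (fun i' => B i' j) (fun _ => 0) i := by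
    intro i j
    have h1 : (Q * A.1 * Q') *ᵥ Pi.single (Sum.inl j) 1 = Q *ᵥ (Q' *ᵥ (Sum.elim (fun i' => B i' j) (fun _ => 0))) := by
      rw [← mulVec_mulVec, ← mulVec_mulVec, hcol, hb, hB]
      congr 1
      have h2 : (Sum.elim (fun i' => B i' j) (fun _ => 0) : Fin k ⊕ Fin m → F) =
          ∑ i', B i' j • Pi.single (Sum.inl i') 1 := by
        ext x
        rw [Finset.sum_apply]
        rcases x with x | x
        · simp [Pi.single_apply]
        · simp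
      rw [h2, mulVec_sum]
      refine Finset.sum_congr rfl fun i' _ => ?_
      rw [mulVec_smul, hcol, hb]
    rw [mulVec_mulVec, h, one_mulVec, mulVec_single_one] at h1
    exact congrFun h1 i
  have hC' : (chgG h h' A : Matrix (Fin k ⊕ Fin m) (Fin k ⊕ Fin m) F) =
      fromBlocks B (Q * A.1 * Q').toBlocks₁₂ 0 (Q * A.1 * Q').toBlocks₂₂ := by
    rw [chgG_coe]
    conv_lhs => rw [← fromBlocks_toBlocks (Q * A.1 * Q')]
    congr 1
    · ext i j
      exact hC (Sum.inl i) j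
    · ext i j
      exact hC (Sum.inr i) j
  obtain ⟨B', hB', h1, h2⟩ := sec_tri hC'
  have e : lift (cj (chgG h h' A)) = tr (chgP h h') (lift (cj A)) := by
    rw [tr_lift, tr_cj]
  rw [e] at h1 h2
  exact ⟨B', hB', fun l hl => h1 l (hl.tr _), fun hl => h2 (hl.tr _)⟩

/-- **sections from orthogonal decompositions** -/
theorem exists_sec_itr [Finite F] (hk : k < n) (A : GL (Fin n) F) {v : Fin k → (Fin n → F)}
    (hv : LinearIndependent F v) {W : Submodule F (Fin n → F)}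
    (hW : IsCompl (Submodule.span F (Set.range v)) W)
    (h1 : ∀ i, ∀ w ∈ W, v i ⬝ᵥ (A : Matrix (Fin n) (Fin n) F) *ᵥ w = 0)
    (h2 : ∀ i, ∀ w ∈ W, w ⬝ᵥ (A : Matrix (Fin n) (Fin n) F) *ᵥ v i = 0) (G : Matrix (Fin k) (Fin k) F)
    (hG : ∀ i j, v i ⬝ᵥ (A : Matrix (Fin n) (Fin n) F) *ᵥ v j = G i j) :
    ∃ G' : GL (Fin k) F, (G' : Matrix (Fin k) (Fin k) F) = G ∧
      (∀ l, PS l (lift (cj A * itr)) → PS l (lift (cj G' * itr))) ∧
      (RN (lift (cj A * itr)) → RN (lift (cj G' * itr))) := by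
  obtain ⟨m, b, hm, hb, hb'⟩ := exists_basis hv hW
  have : Nonempty (Fin m) := ⟨⟨0, by omega⟩⟩
  set Q' : Matrix (Fin n) (Fin k ⊕ Fin m) F := (b.toMatrix (Pi.basisFun F (Fin n)))ᵀ with hQ'
  set Q : Matrix (Fin k ⊕ Fin m) (Fin n) F := ((Pi.basisFun F (Fin n)).toMatrix b)ᵀ with hQ
  have h : Q * Q' = 1 := by
    rw [hQ, hQ', ← transpose_mul, Module.Basis.toMatrix_mul_toMatrix_flip, transpose_one]
  have h' : Q' * Q = 1 := by
    rw [hQ, hQ', ← transpose_mul, Module.Basis.toMatrix_mul_toMatrix_flip, transpose_one]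
  have hQb : ∀ i, Q i = b i := by
    intro i
    ext j
    rfl
  have hC : ∀ i j, (Q * A.1 * Qᵀ) i j = b i ⬝ᵥ (A : Matrix (Fin n) (Fin n) F) *ᵥ b j := by
    intro i j
    rw [Matrix.mul_assoc, mul_apply_eq_vecMul]
    rw [← hQb i, ← hQb j, dotProduct_mulVec]
    rw [← vecMul_vecMul]
    rfl
  have hC' : (chgF h h' A : Matrix (Fin k ⊕ Fin m) (Fin k ⊕ Fin m) F) =
      fromBlocks G 0 0 (Q * A.1 * Qᵀ).toBlocks₂₂ := by
    rw [chgF_coe]
    conv_lhs => rw [← fromBlocks_toBlocks (Q * A.1 * Qᵀ)]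
    congr 1
    · ext i j
      change (Q * A.1 * Qᵀ) (Sum.inl i) (Sum.inl j) = _
      rw [hC, hb, hb, hG]
    · ext i j
      change (Q * A.1 * Qᵀ) (Sum.inl i) (Sum.inr j) = _
      rw [hC, hb, h1 i _ (hb' j)]
      rfl
    · ext i j
      change (Q * A.1 * Qᵀ) (Sum.inr i) (Sum.inl j) = _
      rw [hC, hb, h2 j _ (hb' i)]
      rfl
  obtain ⟨G', hG', h3, h4⟩ := sec_itr hC'
  have e : lift (cj (chgF h h' A) * itr) = tr (chgP h h') (lift (cj A * itr)) := by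
    rw [tr_lift, tr_cj_itr]
  rw [e] at h3 h4
  exact ⟨G', hG', fun l hl => h3 l (hl.tr _), fun hl => h4 (hl.tr _)⟩

end Cfsg.Agent.H29.SN
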