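import Mathlib
import Cfsg.Agent.H29.SN.Lin

/-!
# `PSL_n(3)`, polarities (S3831, helper29)

`pol_six` : an automorphism `cj A * itr` of order `6` with `PS 2` induces one of order `6` on `PSL₄(3)`.
-/

set_option autoImplicit false
set_option linter.unusedSectionVars false

namespace Cfsg.Agent.H29.SN

open Matrix Cfsg.Agent.H459.Rad Cfsg.Agent.H21.SN
open Cfsg.Agent.ClassicalGeometry.AutPSL.Root
open Cfsg.Agent.ClassicalGeometry.AutPSL.Auto
open Cfsg.Agent.ClassicalGeometry.AutPSL.Main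

section General

variable {F : Type} [Field F] {n : ℕ}

/-- the transpose -/
def tp (A : GL (Fin n) F) : GL (Fin n) F where
  val := (A : Matrix (Fin n) (Fin n) F)ᵀ
  inv := ((A⁻¹ : GL (Fin n) F) : Matrix (Fin n) (Fin n) F)ᵀ
  val_inv := by rw [← transpose_mul, ← Units.val_mul, inv_mul_cancel, Units.val_one, transpose_one]
  inv_val := by rw [← transpose_mul, ← Units.val_mul, mul_inv_cancel, Units.val_one, transpose_one]

theorem tp_coe (A : GL (Fin n) F) : (tp A : Matrix (Fin n) (Fin n) F) = (A : Matrix (Fin n) (Fin n) F)ᵀ := rfl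

theorem tp_inv_coe (A : GL (Fin n) F) :
    (((tp A)⁻¹ : GL (Fin n) F) : Matrix (Fin n) (Fin n) F) = ((A⁻¹ : GL (Fin n) F) : Matrix (Fin n) (Fin n) F)ᵀ := rfl

theorem itr_cj (A : GL (Fin n) F) : itr * cj A = cj (tp A)⁻¹ * itr := by
  apply MulEquiv.ext
  intro m
  apply Subtype.ext
  have h1 : (cj A m)⁻¹ = cj A m⁻¹ := (map_inv (cj A) m).symm
  rw [MulAut.mul_apply, MulAut.mul_apply, coe_itr, h1, coe_cj, coe_cj, coe_itr, tp_inv_coe, inv_inv, tp_coe,
    transpose_mul, transpose_mul, Matrix.mul_assoc]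

theorem sq_pol (A : GL (Fin n) F) : (cj A * itr) ^ 2 = cj (A * (tp A)⁻¹) := by
  rw [pow_two, mul_assoc, ← mul_assoc itr, itr_cj, mul_assoc, itr_mul_itr, mul_one, ← map_mul]

end General

/-- the form on the four-dimensional subspace -/
def G4 (e : ZMod 3) : Matrix (Fin 4) (Fin 4) (ZMod 3) := !![0, 1, 0, 0; -1, e, 0, 0; 0, 0, 0, 1; 0, 0, -1, 0]

/-- its asymmetry -/
def C4 (e : ZMod 3) : Matrix (Fin 4) (Fin 4) (ZMod 3) := !![-1, 0, 0, 0; e, -1, 0, 0; 0, 0, -1, 0; 0, 0, 0, -1]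

theorem orderOf_G4 {B : GL (Fin 4) (ZMod 3)} {e : ZMod 3} (he : e ≠ 0)
    (hB : (B : Matrix (Fin 4) (Fin 4) (ZMod 3)) = G4 e) : orderOf (lift (cj B * itr)) = 6 := by
  have hC : ((B * (tp B)⁻¹ : GL (Fin 4) (ZMod 3)) : Matrix (Fin 4) (Fin 4) (ZMod 3)) = C4 e := by
    have h1 : ∀ e : ZMod 3, C4 e * (G4 e)ᵀ = G4 e := by decide +kernel
    have h2 : C4 e * (tp B : Matrix (Fin 4) (Fin 4) (ZMod 3)) = B := by rw [tp_coe, hB, h1]
    rw [Units.val_mul]
    conv_lhs => rw [← h2]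
    rw [Matrix.mul_assoc, ← Units.val_mul, mul_inv_cancel, Units.val_one, Matrix.mul_one]
  have e3 : ∀ e : ZMod 3, (C4 e) ^ 3 = (-1 : ZMod 3) • (1 : Matrix (Fin 4) (Fin 4) (ZMod 3)) := by decide +kernel
  have e1 : ∀ e : ZMod 3, e ≠ 0 → ∀ d : ZMod 3, C4 e ≠ d • (1 : Matrix (Fin 4) (Fin 4) (ZMod 3)) := by
    decide +kernel
  have h2 : lift (cj B * itr) ^ 2 = lift (cj (B * (tp B)⁻¹)) := by rw [← map_pow, sq_pol]
  have h6 : lift (cj B * itr) ^ 6 = 1 := by
    rw [show 6 = 2 * 3 from rfl, pow_mul, h2, ← map_pow, ← map_pow]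
    exact lift_eq_one_of_scalar (c := -1) (by rw [Units.val_pow_eq_pow_val, hC, e3])
  refine orderOf_eq_of_pow_and_pow_div_prime (by norm_num) h6 ?_
  intro p hp hp6 h
  have hp' : p = 2 ∨ p = 3 := by
    have h1 : p ∣ 2 * 3 := hp6
    rcases (Nat.Prime.dvd_mul hp).1 h1 with h2 | h2
    · exact Or.inl ((Nat.prime_dvd_prime_iff_eq hp Nat.prime_two).1 h2)
    · exact Or.inr ((Nat.prime_dvd_prime_iff_eq hp Nat.prime_three).1 h2)
  rcases hp' with rfl | rfl
  · rw [show 6 / 2 = 3 from rfl, pow_succ, h2, ← map_mul, ← mul_assoc, ← map_mul] at h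
    exact not_graph' (by norm_num) _ h
  · rw [show 6 / 3 = 2 from rfl, h2] at h
    obtain ⟨d, -, hd⟩ := scalar_of_lift_eq_one (by norm_num) h
    rw [hC] at hd
    exact e1 e he d hd

section Pol

variable {n : ℕ} {A : GL (Fin n) (ZMod 3)}

theorem pol_not_nine (hn : 3 ≤ n) (h9 : orderOf (lift (cj A * itr)) = 9) : False := by
  have h1 : lift (cj A * itr) ^ 9 = 1 := by rw [← h9]; exact pow_orderOf_eq_one _
  rw [← map_pow, show 9 = 2 * 4 + 1 from rfl, pow_succ, pow_mul, sq_pol, ← map_pow, ← mul_assoc, ← map_mul] at h1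
  exact not_graph' hn _ h1

/-- **polarities of order six** -/
theorem pol_six (hA : BaseA) (hB : BaseB) (hn : 5 ≤ n) (h6 : orderOf (lift (cj A * itr)) = 6)
    (hP : PS 2 (lift (cj A * itr))) (hR : RN (lift (cj A * itr) ^ 2)) :
    ∃ B : GL (Fin 4) (ZMod 3), orderOf (lift (cj B * itr)) = 6 ∧ PS 2 (lift (cj B * itr)) := by
  have : Nonempty (Fin n) := ⟨⟨0, by omega⟩⟩
  obtain ⟨C, hC⟩ : ∃ C, C = A * (tp A)⁻¹ := ⟨_, rfl⟩
  have hx2 : lift (cj A * itr) ^ 2 = lift (cj C) := by rw [← map_pow, sq_pol, hC]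
  have hC3 : lift (cj (C ^ 3)) = 1 := by
    rw [map_pow, map_pow, ← hx2, ← pow_mul, show 2 * 3 = 6 from rfl, ← h6]
    exact pow_orderOf_eq_one _
  obtain ⟨c, hc, hc'⟩ := scalar_of_lift_eq_one (by omega) hC3
  have hcc := sq_eq_one_of_ne c hc
  obtain ⟨D, hD, hD'⟩ := exists_smul C hc
  rw [← hD'] at hx2
  obtain ⟨M, hM⟩ : ∃ M : Matrix (Fin n) (Fin n) (ZMod 3), M = A := ⟨_, rfl⟩
  obtain ⟨U, hU⟩ : ∃ U : Matrix (Fin n) (Fin n) (ZMod 3), U = D := ⟨_, rfl⟩
  have hD3 : U ^ 3 = 1 := by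
    rw [hU, hD, smul_pow, ← Units.val_pow_eq_pow_val, hc', smul_smul]
    have : ∀ c : ZMod 3, c ≠ 0 → c ^ 3 * c = 1 := by decide
    rw [this c hc, one_smul]
  have hD1 : U ≠ 1 := by
    intro h
    have h2 : lift (cj A * itr) ^ 2 = 1 := by
      rw [hx2]
      exact lift_eq_one_of_scalar (c := 1) (by rw [← hU, h, one_smul])
    have h3 := orderOf_dvd_of_pow_eq_one h2
    rw [h6] at h3
    omega
  have hPD : PS 2 (lift (cj D)) := by rw [← hx2]; exact PS.pow hP 2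
  have hRD : RN (lift (cj D)) := by rw [← hx2]; exact hR
  have hsq : ((D : Matrix (Fin n) (Fin n) (ZMod 3)) - 1) ^ 2 = 0 := by
    refine no_J3 hA (by omega) hPD (m := 3) ?_
    rw [sub_pow_char_of_commute (p := 3) (Commute.one_right _), one_pow, ← hU, hD3, sub_self]
  obtain ⟨a, φ, ha, hφ, hφa, hDa⟩ := no_J22 hB hn hPD hRD hsq (by rw [← hU]; exact hD1)
  rw [← hU] at hDa
  -- `M = c U Mᵀ`, `M = U M Uᵀ`
  have hMt : U * Mᵀ = c • M := by
    have h1 : (C : Matrix (Fin n) (Fin n) (ZMod 3)) * (tp A : Matrix (Fin n) (Fin n) (ZMod 3)) = M := by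
      rw [hC, ← Units.val_mul, inv_mul_cancel_right, hM]
    rw [hU, hD, Matrix.smul_mul, hM, ← tp_coe, h1, hM]
  have hM1 : M = c • (U * Mᵀ) := by rw [hMt, smul_smul, hcc, one_smul]
  have hM2 : Mᵀ = c • (M * Uᵀ) := by
    conv_lhs => rw [hM1]
    rw [transpose_smul, transpose_mul, transpose_transpose]
  have hM3 : M = U * M * Uᵀ := by
    conv_lhs => rw [hM1, hM2]
    rw [Matrix.mul_smul, smul_smul, hcc, one_smul, Matrix.mul_assoc]
  -- the form
  obtain ⟨β, hβ⟩ : ∃ β : (Fin n → ZMod 3) → (Fin n → ZMod 3) → ZMod 3, β = fun r s => r ⬝ᵥ M *ᵥ s := ⟨_, rfl⟩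
  have hadd1 : ∀ r r' s, β (r + r') s = β r s + β r' s := by
    intro r r' s; rw [hβ]; exact add_dotProduct _ _ _
  have hadd2 : ∀ r s s', β r (s + s') = β r s + β r s' := by
    intro r s s'; rw [hβ]; change r ⬝ᵥ M *ᵥ (s + s') = _; rw [mulVec_add, dotProduct_add]
  have hsm1 : ∀ (x : ZMod 3) r s, β (x • r) s = x * β r s := by
    intro x r s; rw [hβ]; change (x • r) ⬝ᵥ M *ᵥ s = _; rw [smul_dotProduct, smul_eq_mul]
  have hsm2 : ∀ (x : ZMod 3) r s, β r (x • s) = x * β r s := by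
    intro x r s; rw [hβ]; change r ⬝ᵥ M *ᵥ (x • s) = _; rw [mulVec_smul, dotProduct_smul, smul_eq_mul]
  have hz1 : ∀ s, β 0 s = 0 := by
    intro s; rw [hβ]; change 0 ⬝ᵥ M *ᵥ s = _; rw [zero_dotProduct]
  have hz2 : ∀ s, β s 0 = 0 := by
    intro s; rw [hβ]; change s ⬝ᵥ M *ᵥ 0 = _; rw [mulVec_zero, dotProduct_zero]
  have hnd : ∀ s, s ≠ 0 → ∃ r, β r s ≠ 0 := by
    intro s hs
    have h1 : M *ᵥ s ≠ 0 := by
      intro h
      apply hs
      have h2 : ((A⁻¹ : GL (Fin n) (ZMod 3)) : Matrix (Fin n) (Fin n) (ZMod 3)) *ᵥ (M *ᵥ s) = s := by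
        rw [mulVec_mulVec, hM, ← Units.val_mul, inv_mul_cancel, Units.val_one, one_mulVec]
      rw [← h2, h, mulVec_zero]
    obtain ⟨i, hi⟩ := Function.ne_iff.1 h1
    refine ⟨Pi.single i 1, ?_⟩
    rw [hβ]
    change Pi.single i 1 ⬝ᵥ M *ᵥ s ≠ 0
    rw [single_dotProduct, one_mul]
    exact hi
  have hnd' : ∀ s, s ≠ 0 → ∃ r, β s r ≠ 0 := by
    intro s hs
    have h1 : s ᵥ* M ≠ 0 := by
      intro h
      apply hs
      have h2 : (s ᵥ* M) ᵥ* ((A⁻¹ : GL (Fin n) (ZMod 3)) : Matrix (Fin n) (Fin n) (ZMod 3)) = s := by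
        rw [vecMul_vecMul, hM, ← Units.val_mul, mul_inv_cancel, Units.val_one, vecMul_one]
      rw [← h2, h, zero_vecMul]
    obtain ⟨i, hi⟩ := Function.ne_iff.1 h1
    refine ⟨Pi.single i 1, ?_⟩
    rw [hβ]
    change s ⬝ᵥ M *ᵥ Pi.single i 1 ≠ 0
    rw [dotProduct_mulVec, dotProduct_single, mul_one]
    exact hi
  have hrU : ∀ r, r ᵥ* U = r + (r ⬝ᵥ a) • φ := by
    intro r
    rw [hDa, vecMul_add, vecMul_one, vecMul_vecMulVec]
  -- invariance
  have hinv : ∀ r s, β (r + (r ⬝ᵥ a) • φ) (s + (s ⬝ᵥ a) • φ) = β r s := by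
    intro r s
    rw [← hrU, ← hrU, hβ]
    change (r ᵥ* U) ⬝ᵥ M *ᵥ (s ᵥ* U) = r ⬝ᵥ M *ᵥ s
    conv_rhs => rw [hM3]
    rw [Matrix.mul_assoc, ← mulVec_mulVec, dotProduct_mulVec r, ← mulVec_mulVec, mulVec_transpose]
  have hsymm : ∀ r s, β s r = c * (β r s + (s ⬝ᵥ a) * β r φ) := by
    intro r s
    rw [← hsm2, ← hadd2, ← hrU, hβ]
    change s ⬝ᵥ M *ᵥ r = c * (r ⬝ᵥ M *ᵥ (s ᵥ* U))
    rw [dotProduct_mulVec, dotProduct_comm, ← mulVec_transpose, hM2, smul_mulVec, ← mulVec_mulVec, mulVec_transpose,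
      dotProduct_smul, smul_eq_mul]
  obtain ⟨r0, hr0⟩ : ∃ r0, r0 ⬝ᵥ a = 1 := by
    obtain ⟨i, hi⟩ := Function.ne_iff.1 ha
    refine ⟨Pi.single i (a i)⁻¹, ?_⟩
    rw [single_dotProduct, inv_mul_cancel₀ hi]
  have hφφ : β φ φ = 0 := by
    have h1 := hinv r0 φ
    rw [hr0, hφa, one_smul, zero_smul, add_zero, hadd1] at h1
    exact left_eq_add.1 h1.symm
  have hexp : ∀ r s, (s ⬝ᵥ a) * β r φ + (r ⬝ᵥ a) * β φ s = 0 := by
    intro r s
    have h1 := hinv r s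
    rw [hadd1, hadd2, hadd2, hsm1, hsm1, hsm2, hsm2, hφφ] at h1
    linear_combination h1
  have hφs : ∀ s, β φ s = c * β s φ := by
    intro s
    have h1 := hsymm s φ
    rwa [hφa, zero_mul, add_zero] at h1
  have hker : ∀ s, s ⬝ᵥ a = 0 → β s φ = 0 := by
    intro s hs
    have h1 := hexp r0 s
    rw [hs, hr0, zero_mul, zero_add, one_mul, hφs] at h1
    exact (mul_eq_zero.1 h1).resolve_left hc
  have hsφ : ∀ s, β s φ = (s ⬝ᵥ a) * β r0 φ := by
    intro s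
    have h1 := hker (s + (-(s ⬝ᵥ a)) • r0) (by
      rw [add_dotProduct, smul_dotProduct, hr0, smul_eq_mul, mul_one, add_neg_cancel])
    rw [hadd1, hsm1] at h1
    linear_combination h1
  have hδ : β r0 φ ≠ 0 := by
    intro h
    obtain ⟨r, hr⟩ := hnd φ hφ
    apply hr
    rw [hsφ, h, mul_zero]
  have hc1 : c = -1 := by
    have : ∀ c x : ZMod 3, c ≠ 0 → x ≠ 0 → x + c * x = 0 → c = -1 := by decide
    refine this c (β r0 φ) hc hδ ?_
    have h1 := hexp r0 r0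
    rwa [hr0, one_mul, one_mul, hφs] at h1
  subst hc1
  obtain ⟨δ, hδ'⟩ : ∃ δ, δ = β r0 φ := ⟨_, rfl⟩
  rw [← hδ'] at hδ hsφ
  have hδδ := sq_eq_one_of_ne δ hδ
  -- alternation
  have halt : ∀ s, β φ s = 0 → ∀ r, β s r = - β r s := by
    intro s hs r
    have h1 : s ⬝ᵥ a = 0 := by
      have h2 := hφs s
      rw [hs, hsφ] at h2
      have : ∀ x y : ZMod 3, y ≠ 0 → 0 = -1 * (x * y) → x = 0 := by decide
      exact this _ _ hδ h2
    rw [hsymm r s, h1, zero_mul, add_zero]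
    ring
  obtain ⟨r2, hr2⟩ : ∃ r2, r2 = (-δ) • r0 := ⟨_, rfl⟩
  have b2a : r2 ⬝ᵥ a = -δ := by rw [hr2, smul_dotProduct, hr0, smul_eq_mul, mul_one]
  have b2φ : β r2 φ = -1 := by rw [hsφ, b2a, neg_mul, hδδ]
  have bφ2 : β φ r2 = 1 := by rw [hφs, b2φ]; ring
  have b22 : β r2 r2 = δ := by
    have h1 := hsymm r2 r2
    rw [b2a, b2φ] at h1
    generalize β r2 r2 = x at h1 ⊢
    revert h1
    have : ∀ x y : ZMod 3, x = -1 * (x + -y * -1) → x = y := by decide
    exact this x δ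
  -- a vector orthogonal to both
  obtain ⟨r3, h30, h3φ, h32⟩ : ∃ r3, r3 ≠ 0 ∧ β φ r3 = 0 ∧ β r2 r3 = 0 := by
    let f : (Fin n → ZMod 3) →ₗ[ZMod 3] (Fin 2 → ZMod 3) :=
      { toFun := fun s => ![β φ s, β r2 s]
        map_add' := by
          intro s s'
          ext i
          fin_cases i
          · exact hadd2 _ _ _
          · exact hadd2 _ _ _
        map_smul' := by
          intro x s
          ext i
          fin_cases i
          · exact hsm2 _ _ _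
          · exact hsm2 _ _ _ }
    have hf : f.ker ≠ ⊥ := by
      refine LinearMap.ker_ne_bot_of_finrank_lt ?_
      rw [Module.finrank_fin_fun, Module.finrank_fin_fun]
      omega
    obtain ⟨s, hs, hs0⟩ := (Submodule.ne_bot_iff _).1 hf
    have h1 : f s = 0 := hs
    exact ⟨s, hs0, congrFun h1 0, congrFun h1 1⟩
  obtain ⟨t, ht⟩ := hnd' r3 h30
  have h3φ' : β r3 φ = 0 := by rw [halt r3 h3φ, h3φ, neg_zero]
  have h32' : β r3 r2 = 0 := by rw [halt r3 h3φ, h32, neg_zero]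
  have h33 : β r3 r3 = 0 := by
    have h1 := halt r3 h3φ r3
    generalize β r3 r3 = x at h1 ⊢
    revert x
    decide
  obtain ⟨y, hy⟩ : ∃ y, y = β φ t := ⟨_, rfl⟩
  obtain ⟨x, hx⟩ : ∃ x, x = y * δ - β r2 t := ⟨_, rfl⟩
  obtain ⟨r4, hr4⟩ : ∃ r4, r4 = (β r3 t) • (t + (-x) • φ + (-y) • r2) := ⟨_, rfl⟩
  have h4φ : β φ r4 = 0 := by
    rw [hr4, hsm2, hadd2, hadd2, hsm2, hsm2, hφφ, bφ2, ← hy]
    ring
  have h42 : β r2 r4 = 0 := by
    rw [hr4, hsm2, hadd2, hadd2, hsm2, hsm2, b2φ, b22, hx]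
    ring
  have h34 : β r3 r4 = 1 := by
    rw [hr4, hsm2, hadd2, hadd2, hsm2, hsm2, h3φ', h32', mul_zero, mul_zero, add_zero, add_zero]
    exact sq_eq_one_of_ne _ ht
  have h4φ' : β r4 φ = 0 := by rw [halt r4 h4φ, h4φ, neg_zero]
  have h42' : β r4 r2 = 0 := by rw [halt r4 h4φ, h42, neg_zero]
  have h43 : β r4 r3 = -1 := by rw [halt r4 h4φ, h34]
  have h44 : β r4 r4 = 0 := by
    have h1 := halt r4 h4φ r4
    generalize β r4 r4 = x at h1 ⊢
    revert x
    decide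
  -- the coefficients
  have hsum : ∀ (g : Fin 4 → ZMod 3) (r : Fin n → ZMod 3), β r (∑ i, g i • (![φ, r2, r3, r4] : Fin 4 → _) i) =
      g 0 * β r φ + g 1 * β r r2 + g 2 * β r r3 + g 3 * β r r4 := by
    intro g r
    rw [Fin.sum_univ_four, hadd2, hadd2, hadd2, hsm2, hsm2, hsm2, hsm2]
    simp only [cons_val_zero, cons_val_one, cons_val_two, cons_val_three, head_cons, tail_cons]
  have hcoef : ∀ g : Fin 4 → ZMod 3, (∀ i, β ((![φ, r2, r3, r4] : Fin 4 → _) i)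
      (∑ i, g i • (![φ, r2, r3, r4] : Fin 4 → _) i) = 0) → ∀ i, g i = 0 := by
    intro g hg
    have e0 := hg 0
    have e1 := hg 1
    have e2 := hg 2
    have e3 := hg 3
    rw [hsum] at e0 e1 e2 e3
    simp only [cons_val_zero, cons_val_one, cons_val_two, cons_val_three, head_cons, tail_cons, hφφ, bφ2, b2φ, b22, h3φ,
      h32, h3φ', h32', h33, h34, h4φ, h42, h4φ', h42', h43, h44, mul_zero, mul_one, zero_add, add_zero, mul_neg] at e0 e1 e2 e3
    have g1 : g 1 = 0 := e0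
    have g0 : g 0 = 0 := by
      rw [g1, zero_mul, add_zero] at e1
      exact neg_eq_zero.1 e1
    have g3 : g 3 = 0 := e2
    have g2 : g 2 = 0 := neg_eq_zero.1 e3
    intro i
    fin_cases i
    · exact g0
    · exact g1
    · exact g2
    · exact g3
  have hli : LinearIndependent (ZMod 3) ![φ, r2, r3, r4] := by
    rw [Fintype.linearIndependent_iff]
    intro g hg
    refine hcoef g fun i => ?_
    rw [hg, hz2]
  let W : Submodule (ZMod 3) (Fin n → ZMod 3) :=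
    { carrier := {s | ∀ i, β ((![φ, r2, r3, r4] : Fin 4 → _) i) s = 0}
      add_mem' := by
        intro s s' hs hs' i
        rw [hadd2, hs i, hs' i, add_zero]
      zero_mem' := fun i => hz2 _
      smul_mem' := by
        intro x s hs i
        rw [hsm2, hs i, mul_zero] }
  have hW : IsCompl (Submodule.span (ZMod 3) (Set.range ![φ, r2, r3, r4])) W := by
    constructor
    · rw [Submodule.disjoint_def]
      intro s hs hsW
      obtain ⟨g, rfl⟩ := (Submodule.mem_span_range_iff_exists_fun (ZMod 3)).1 hs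
      have h1 := hcoef g hsW
      simp [h1]
    · rw [Submodule.codisjoint_iff_exists_add_eq]
      intro s
      obtain ⟨g, hg⟩ : ∃ g : Fin 4 → ZMod 3, g = ![δ * β φ s - β r2 s, β φ s, -β r4 s, β r3 s] := ⟨_, rfl⟩
      have g0 : g 0 = δ * β φ s - β r2 s := by rw [hg]; rfl
      have g1 : g 1 = β φ s := by rw [hg]; rfl
      have g2 : g 2 = -β r4 s := by rw [hg]; rfl
      have g3 : g 3 = β r3 s := by rw [hg]; rfl
      refine ⟨∑ i, g i • (![φ, r2, r3, r4] : Fin 4 → _) i,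
        s + (-1 : ZMod 3) • ∑ i, g i • (![φ, r2, r3, r4] : Fin 4 → _) i,
        (Submodule.mem_span_range_iff_exists_fun (ZMod 3)).2 ⟨g, rfl⟩, ?_, ?_⟩
      · intro i
        rw [hadd2, hsm2, hsum, g0, g1, g2, g3]
        fin_cases i
        · change β φ s + -1 * (_ * β φ φ + _ * β φ r2 + _ * β φ r3 + _ * β φ r4) = 0
          rw [hφφ, bφ2, h3φ, h4φ]; ring
        · change β r2 s + -1 * (_ * β r2 φ + _ * β r2 r2 + _ * β r2 r3 + _ * β r2 r4) = 0
          rw [b2φ, b22, h32, h42]; ring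
        · change β r3 s + -1 * (_ * β r3 φ + _ * β r3 r2 + _ * β r3 r3 + _ * β r3 r4) = 0
          rw [h3φ', h32', h33, h34]; ring
        · change β r4 s + -1 * (_ * β r4 φ + _ * β r4 r2 + _ * β r4 r3 + _ * β r4 r4) = 0
          rw [h4φ', h42', h43, h44]; ring
      · rw [neg_one_smul]
        abel
  have hM' : ∀ r s, r ⬝ᵥ (A : Matrix (Fin n) (Fin n) (ZMod 3)) *ᵥ s = β r s := by
    intro r s; rw [hβ, hM]
  obtain ⟨B, hB1, hB2, -⟩ := exists_sec_itr (k := 4) (by omega) A hli hW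
    (fun i w hw => by rw [hM']; exact hw i)
    (fun i w hw => by
      rw [hM', halt w (hw 0)]
      exact neg_eq_zero.2 (hw i)) (G4 δ) (by
      intro i j
      rw [hM']
      fin_cases i <;> fin_cases j
      · exact hφφ
      · exact bφ2
      · exact h3φ
      · exact h4φ
      · exact b2φ
      · exact b22
      · exact h32
      · exact h42
      · exact h3φ'
      · exact h32'
      · exact h33
      · exact h34
      · exact h4φ'
      · exact h42'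
      · exact h43
      · exact h44)
  exact ⟨B, orderOf_G4 hδ hB1, hB2 2 hP⟩

end Pol

end Cfsg.Agent.H29.SN
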