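import Mathlib
import Cfsg.Agent.H29.SN.Pol
import Cfsg.Agent.S0243
import Cfsg.Agent.S0249
import Cfsg.Agent.LieClassical.FieldTransfer

/-!
# `PSL_n(3)`, `n ≥ 5` (S3831, task E1c, helper29)

`r69_psl3 : BaseA → BaseB → 5 ≤ n → R69 (PSL_n(3))`.
-/

set_option autoImplicit false
set_option linter.unusedSectionVars false

namespace Cfsg.Agent.H29.SN

open Matrix Cfsg.Agent.H459.Rad Cfsg.Agent.H21.SN
open Cfsg.Agent.ClassicalGeometry.AutPSL.Root
open Cfsg.Agent.ClassicalGeometry.AutPSL.Auto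
open Cfsg.Agent.ClassicalGeometry.AutPSL.Main

theorem not_comm {G : Type*} [Group G] (a b : G) (h : a * b ≠ b * a) : ¬ IsMulCommutative G := by
  intro hG
  exact h (hG.is_comm.comm a b)

theorem psl_not_comm {k : ℕ} (hk : 3 ≤ k) :
    ¬ IsMulCommutative (ProjectiveSpecialLinearGroup (Fin k) (ZMod 3)) := by
  intro hG
  have h0 : (⟨0, by omega⟩ : Fin k) ≠ ⟨1, by omega⟩ := by simp
  have h1 : (⟨1, by omega⟩ : Fin k) ≠ ⟨0, by omega⟩ := by simp
  have h2 := hG.is_comm.comm (pr (SpecialLinearGroup.transvection h0 (1 : ZMod 3)))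
    (pr (SpecialLinearGroup.transvection h1 (1 : ZMod 3)))
  rw [← map_mul, ← map_mul] at h2
  obtain ⟨c, hc⟩ := exists_smul_of_pr_eq h2
  have e1 : ∀ i j : Fin k, ((SpecialLinearGroup.transvection h0 (1 : ZMod 3) *
      SpecialLinearGroup.transvection h1 (1 : ZMod 3) : SpecialLinearGroup (Fin k) (ZMod 3)) :
      Matrix (Fin k) (Fin k) (ZMod 3)) i j =
      ((1 + single ⟨0, by omega⟩ ⟨1, by omega⟩ (1 : ZMod 3)) * (1 + single ⟨1, by omega⟩ ⟨0, by omega⟩ (1 : ZMod 3)) :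
        Matrix (Fin k) (Fin k) (ZMod 3)) i j := fun i j => rfl
  have e2 : ∀ i j : Fin k, ((SpecialLinearGroup.transvection h1 (1 : ZMod 3) *
      SpecialLinearGroup.transvection h0 (1 : ZMod 3) : SpecialLinearGroup (Fin k) (ZMod 3)) :
      Matrix (Fin k) (Fin k) (ZMod 3)) i j =
      ((1 + single ⟨1, by omega⟩ ⟨0, by omega⟩ (1 : ZMod 3)) * (1 + single ⟨0, by omega⟩ ⟨1, by omega⟩ (1 : ZMod 3)) :
        Matrix (Fin k) (Fin k) (ZMod 3)) i j := fun i j => rfl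
  have f0 := congrFun (congrFun hc ⟨0, by omega⟩) ⟨0, by omega⟩
  have f2 := congrFun (congrFun hc ⟨2, by omega⟩) ⟨2, by omega⟩
  rw [Matrix.smul_apply, e1, e2] at f0 f2
  have z2 : (⟨2, by omega⟩ : Fin k) ≠ ⟨0, by omega⟩ := by simp
  have z3 : (⟨2, by omega⟩ : Fin k) ≠ ⟨1, by omega⟩ := by simp
  simp [Matrix.add_mul, Matrix.mul_add, h1, z2.symm, z3.symm] at f0 f2
  rw [← f2] at f0
  revert f0
  decide

theorem card_lt {k n : ℕ} (hk : k = 3 ∨ k = 4) (hn : 5 ≤ n) :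
    Nat.card (ProjectiveSpecialLinearGroup (Fin k) (ZMod 3)) < Nat.card (ProjectiveSpecialLinearGroup (Fin n) (ZMod 3)) := by
  have h1 : Nat.card (ProjectiveSpecialLinearGroup (Fin k) (ZMod 3)) ≤ 6065280 := by
    rcases hk with rfl | rfl
    · have h := Cfsg.Agent.S0243.result (F := ZMod 3) (q := 3) (ZMod.card 3) 3 (by norm_num)
      have h1 : Nat.gcd 3 (3 - 1) = 1 := by decide
      have h2 : ∏ i : Fin 3, (3 ^ 3 - 3 ^ (i : ℕ)) = 11232 := by decide
      rw [h1, h2] at h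
      omega
    · have h := Cfsg.Agent.S0243.result (F := ZMod 3) (q := 3) (ZMod.card 3) 4 (by norm_num)
      have h1 : Nat.gcd 4 (3 - 1) = 2 := by decide
      have h2 : ∏ i : Fin 4, (3 ^ 4 - 3 ^ (i : ℕ)) = 24261120 := by decide
      rw [h1, h2] at h
      omega
  have h := Cfsg.Agent.S0243.result (F := ZMod 3) (q := 3) (ZMod.card 3) n (by omega)
  have h2 : Nat.gcd n (3 - 1) ≤ 2 := Nat.gcd_le_right _ (by norm_num)
  have h3 : 162 ^ 5 ≤ ∏ i : Fin n, (3 ^ n - 3 ^ (i : ℕ)) := by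
    have h4 : ∀ i : Fin n, 162 ≤ 3 ^ n - 3 ^ (i : ℕ) := by
      intro i
      have h5 : 3 ^ (i : ℕ) ≤ 3 ^ (n - 1) := Nat.pow_le_pow_right (by norm_num) (by omega)
      have h6 : 3 ^ n = 3 * 3 ^ (n - 1) := by rw [← pow_succ']; congr 1; omega
      have h7 : 3 ^ 4 ≤ 3 ^ (n - 1) := Nat.pow_le_pow_right (by norm_num) (by omega)
      omega
    calc 162 ^ 5 ≤ 162 ^ n := Nat.pow_le_pow_right (by norm_num) hn
      _ = ∏ _i : Fin n, 162 := by rw [Finset.prod_const, Finset.card_univ, Fintype.card_fin]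
      _ ≤ _ := Finset.prod_le_prod' fun i _ => h4 i
  rw [← h] at h3
  have h8 : Nat.gcd n (3 - 1) * ((3 - 1) * Nat.card (ProjectiveSpecialLinearGroup (Fin n) (ZMod 3))) ≤
      2 * ((3 - 1) * Nat.card (ProjectiveSpecialLinearGroup (Fin n) (ZMod 3))) := Nat.mul_le_mul_right _ h2
  generalize Nat.card (ProjectiveSpecialLinearGroup (Fin n) (ZMod 3)) = N at *
  have h9 := h3.trans h8
  norm_num at h9
  omega

/-- **the row `PSL_n(3)`, `n ≥ 5`** -/
theorem r69_psl3 (hA : BaseA) (hB : BaseB) {n : ℕ} (hn : 5 ≤ n) :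
    R69 (ProjectiveSpecialLinearGroup (Fin n) (ZMod 3)) := by
  intro x hx hP hR hI
  have key : ∀ σ : ZMod 3 ≃+* ZMod 3, σ = 1 := by
    intro σ
    apply RingEquiv.ext
    intro a
    exact congrFun (congrArg DFunLike.coe (Subsingleton.elim (σ : ZMod 3 →+* ZMod 3) (RingHom.id _))) a
  have s3 : IsSimpleGroup (ProjectiveSpecialLinearGroup (Fin 3) (ZMod 3)) := Cfsg.Agent.S0249.result 3 (by norm_num)
  have s4 : IsSimpleGroup (ProjectiveSpecialLinearGroup (Fin 4) (ZMod 3)) := Cfsg.Agent.S0249.result 4 (by norm_num)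
  rcases surj_three 3 (by omega : 3 ≤ n) x with ⟨A, σ, rfl⟩ | ⟨A, σ, rfl⟩
  · rw [key σ, map_one, mul_one] at hx hP hR
    rcases hx with hx | hx
    · obtain ⟨B, h1, h2⟩ := lin_six hA hB hn hx hP (hR 4 (by
        rw [← pow_mul, show 4 * 3 = 6 * 2 from rfl, pow_mul, ← hx, pow_orderOf_eq_one, one_pow]))
      exact hI _ (psl_not_comm le_rfl) (card_lt (Or.inl rfl) hn) _ (Or.inl h1) h2
    · exact lin_nine hA (by omega) hx hP
  · rw [key σ, map_one, mul_one] at hx hP hR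
    rcases hx with hx | hx
    · obtain ⟨B, h1, h2⟩ := pol_six hA hB hn hx hP (hR 2 (by
        rw [← pow_mul, show 2 * 3 = 6 from rfl, ← hx, pow_orderOf_eq_one]))
      exact hI _ (psl_not_comm (by norm_num)) (card_lt (Or.inr rfl) hn) _ (Or.inl h1) h2
    · exact pol_not_nine (by omega) hx

/-- **task E1c** -/
theorem E1c (hA : BaseA) (hB : BaseB) {K : Type} [Group K] [Finite K] {F : Type} [Field F] [Fintype F]
    (hF : Fintype.card F = 3) {n : ℕ} (hn : 5 ≤ n)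
    (e : Nonempty (K ≃* ProjectiveSpecialLinearGroup (Fin n) F)) : R69 K := by
  obtain ⟨e⟩ := e
  let f : F ≃+* ZMod 3 := FiniteField.ringEquivOfCardEq (by rw [hF, ZMod.card])
  exact R69.congr (e.trans (LieClassical.FieldTransfer.pslCongr f)) (r69_psl3 hA hB hn)

end Cfsg.Agent.H29.SN
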